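import Mathlib.LinearAlgebra.FiniteDimensional.Basic
import Mathlib.FieldTheory.Finiteness
import Mathlib.Data.Finset.Powerset
import Mathlib.Data.Nat.Choose.Basic
import Mathlib.InformationTheory.Hamming
import Mathlib.Tactic
import Cfsg.Prelude.Def_Sporadic_a

/-!
Self-orthogonal binary codes of length 24, dimension 12 and minimum weight 8, handled through
supports: coset leaders, octads, span by octads.
-/

namespace Cfsg.Agent.SelfDual24

open Finset
open scoped symmDiff

abbrev W := Fin 24 → ZMod 2

/-- The word with a given support. -/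
def chi (s : Finset (Fin 24)) : W := fun i => if i ∈ s then 1 else 0

/-- The support of a word. -/
abbrev sp (v : W) : Finset (Fin 24) := univ.filter fun i => v i ≠ 0

theorem eq_one : ∀ a : ZMod 2, a ≠ 0 → a = 1 := by decide

theorem sp_chi (s : Finset (Fin 24)) : sp (chi s) = s := by
  ext i; simp [chi]

theorem chi_sp (v : W) : chi (sp v) = v := by
  ext i
  by_cases h : v i = 0
  · simp [chi, h]
  · simp [chi, h, eq_one _ h]

theorem sp_injective : Function.Injective sp := fun a b h => by
  rw [← chi_sp a, ← chi_sp b, h]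

theorem norm_eq (v : W) : hammingNorm v = (sp v).card := rfl

theorem mem_symmDiff' {a b : Finset (Fin 24)} {i : Fin 24} :
    i ∈ a ∆ b ↔ (i ∈ a ∧ i ∉ b) ∨ (i ∈ b ∧ i ∉ a) := Finset.mem_symmDiff

theorem chi_symmDiff (a b : Finset (Fin 24)) : chi (a ∆ b) = chi a + chi b := by
  ext i
  by_cases ha : i ∈ a <;> by_cases hb : i ∈ b <;> simp [chi, mem_symmDiff', ha, hb] <;> decide

theorem chi_sub (a b : Finset (Fin 24)) : chi a - chi b = chi (a ∆ b) := by
  rw [chi_symmDiff]
  ext i
  simp only [Pi.sub_apply, Pi.add_apply]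
  generalize chi a i = x
  generalize chi b i = y
  revert x y
  decide

theorem card_symmDiff_add (a b : Finset (Fin 24)) :
    (a ∆ b).card + 2 * (a ∩ b).card = a.card + b.card := by
  have h1 : (a ∆ b).card = (a \ b).card + (b \ a).card := by
    rw [← Finset.card_union_of_disjoint disjoint_sdiff_sdiff]
    rfl
  have h2 := Finset.card_sdiff_add_card_inter a b
  have h3 := Finset.card_sdiff_add_card_inter b a
  rw [Finset.inter_comm b a] at h3
  omega

theorem dot_chi (a b : Finset (Fin 24)) :
    ∑ i, chi a i * chi b i = ((a ∩ b).card : ZMod 2) := by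
  have : ∀ i, chi a i * chi b i = chi (a ∩ b) i := fun i => by
    by_cases ha : i ∈ a <;> by_cases hb : i ∈ b <;> simp [chi, ha, hb]
  rw [Finset.sum_congr rfl fun i _ => this i]
  show (∑ i, if i ∈ a ∩ b then (1 : ZMod 2) else 0) = _
  rw [Finset.sum_boole, Finset.filter_univ_mem]

variable {C : Submodule (ZMod 2) W}
variable (hdim : Module.finrank (ZMod 2) C = 12)
variable (horth : ∀ v ∈ C, ∀ w ∈ C, ∑ i, v i * w i = 0)
variable (hmin : ∀ w ∈ C, w ≠ 0 → 8 ≤ hammingNorm w)

/-- Membership by support. -/
def InC (C : Submodule (ZMod 2) W) (s : Finset (Fin 24)) : Prop := chi s ∈ C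

include hmin in
theorem min_card {s : Finset (Fin 24)} (hs : InC C s) (h : s.Nonempty) : 8 ≤ s.card := by
  have h0 : chi s ≠ 0 := fun e => by
    obtain ⟨i, hi⟩ := h
    simpa [chi, hi] using congrFun e i
  have := hmin _ hs h0
  rwa [norm_eq, sp_chi] at this

include hmin in
theorem eq_empty_of_card {s : Finset (Fin 24)} (hs : InC C s) (h : s.card < 8) : s = ∅ := by
  by_contra h0
  have := min_card hmin hs (Finset.nonempty_iff_ne_empty.2 h0)
  omega

theorem inC_add {a b : Finset (Fin 24)} (ha : InC C a) (hb : InC C b) : InC C (a ∆ b) := by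
  unfold InC
  rw [chi_symmDiff]
  exact C.add_mem ha hb

include horth in
theorem inter_even {a b : Finset (Fin 24)} (ha : InC C a) (hb : InC C b) :
    Even (a ∩ b).card := by
  have := horth _ ha _ hb
  rw [dot_chi, ZMod.natCast_eq_zero_iff_even] at this
  exact this

include horth in
theorem card_even {a : Finset (Fin 24)} (ha : InC C a) : Even a.card := by
  simpa using inter_even horth ha ha

/-- Two supports lie in the same coset. -/
def Rel (C : Submodule (ZMod 2) W) (a b : Finset (Fin 24)) : Prop := InC C (a ∆ b)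

theorem rel_iff {a b : Finset (Fin 24)} :
    Rel C a b ↔ (C.mkQ (chi a)) = C.mkQ (chi b) := by
  rw [Rel, InC, ← chi_sub, Submodule.mkQ_apply, Submodule.mkQ_apply, Submodule.Quotient.eq]

include hmin in
theorem rel_small {a b : Finset (Fin 24)} (h : Rel C a b) (hc : a.card + b.card < 8) : a = b := by
  have := eq_empty_of_card hmin h (by have := card_symmDiff_add a b; omega)
  exact symmDiff_eq_bot.1 this

include hmin in
theorem rel_four {a b : Finset (Fin 24)} (h : Rel C a b) (ha : a.card = 4) (hb : b.card = 4)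
    (hne : a ≠ b) : Disjoint a b := by
  rw [Finset.disjoint_iff_inter_eq_empty, ← Finset.card_eq_zero]
  have h0 : (a ∆ b).Nonempty := Finset.nonempty_iff_ne_empty.2 fun e => hne (symmDiff_eq_bot.1 e)
  have := min_card hmin h h0
  have := card_symmDiff_add a b
  omega

include hdim hmin in
theorem exists_leader (s : Finset (Fin 24)) : ∃ a, a.card ≤ 4 ∧ Rel C a s := by
  classical
  letI : DecidableEq (W ⧸ C) := Classical.decEq _
  haveI : Finite (W ⧸ C) := Finite.of_surjective _ C.mkQ_surjective
  letI : Fintype (W ⧸ C) := Fintype.ofFinite _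
  let f : Finset (Fin 24) → W ⧸ C := fun a => C.mkQ (chi a)
  have hcard : Fintype.card (W ⧸ C) = 4096 := by
    rw [← Nat.card_eq_fintype_card, Module.natCard_eq_pow_finrank (K := ZMod 2), Nat.card_zmod,
      Submodule.finrank_quotient, hdim, Module.finrank_fintype_fun_eq_card]
    norm_num
  set S3 := (Finset.range 4).biUnion fun k => Finset.powersetCard k (univ : Finset (Fin 24))
    with hS3
  set S4 := Finset.powersetCard 4 (univ : Finset (Fin 24)) with hS4
  have m3 : ∀ a ∈ S3, a.card ≤ 3 := by
    intro a ha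
    simp only [hS3, Finset.mem_biUnion, Finset.mem_range, Finset.mem_powersetCard] at ha
    obtain ⟨k, hk, -, h⟩ := ha
    omega
  have m4 : ∀ a ∈ S4, a.card = 4 := fun a ha => (Finset.mem_powersetCard.1 ha).2
  have c3 : S3.card = 2325 := by
    rw [hS3, Finset.card_biUnion]
    · simp [Finset.sum_range_succ, Finset.card_powersetCard, Nat.choose]
    · intro i _ j _ hij
      rw [Function.onFun, Finset.disjoint_left]
      intro a ha hb
      exact hij ((Finset.mem_powersetCard.1 ha).2.symm.trans (Finset.mem_powersetCard.1 hb).2)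
  have c4 : S4.card = 10626 := by
    rw [hS4, Finset.card_powersetCard]
    simp [Nat.choose]
  have i3 : (S3.image f).card = 2325 := by
    rw [Finset.card_image_of_injOn, c3]
    intro a ha b hb h
    exact rel_small hmin (rel_iff.2 h) (by have := m3 a ha; have := m3 b hb; omega)
  have i4 : 1771 ≤ (S4.image f).card := by
    have := Finset.card_le_mul_card_image S4 (f := f) 6 fun q _ => by
      have hd : ((S4.filter fun a => f a = q) : Set (Finset (Fin 24))).PairwiseDisjoint id := by
        intro a ha b hb hne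
        simp only [Finset.coe_filter, Set.mem_ofPred_eq] at ha hb
        exact rel_four hmin (rel_iff.2 (ha.2.trans hb.2.symm)) (m4 a ha.1) (m4 b hb.1) hne
      have h1 := Finset.card_biUnion hd
      have h2 := Finset.card_le_univ ((S4.filter fun a => f a = q).biUnion id)
      rw [h1, Fintype.card_fin, Finset.sum_const_nat (m := 4)] at h2
      · omega
      · exact fun a ha => m4 a (Finset.mem_filter.1 ha).1
    omega
  have hdis : Disjoint (S3.image f) (S4.image f) := by
    rw [Finset.disjoint_left]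
    intro q hq hq'
    obtain ⟨a, ha, rfl⟩ := Finset.mem_image.1 hq
    obtain ⟨b, hb, h⟩ := Finset.mem_image.1 hq'
    have h1 := m3 a ha
    have h2 := m4 b hb
    have := rel_small hmin (rel_iff.2 h.symm) (by omega)
    subst this; omega
  have hall : S3.image f ∪ S4.image f = univ := by
    apply Finset.eq_univ_of_card
    refine le_antisymm (Finset.card_le_univ _) ?_
    rw [hcard, Finset.card_union_of_disjoint hdis]
    omega
  have := Finset.mem_univ (f s)
  rw [← hall, Finset.mem_union, Finset.mem_image, Finset.mem_image] at this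
  rcases this with ⟨a, ha, h⟩ | ⟨a, ha, h⟩
  · exact ⟨a, by have := m3 a ha; omega, rel_iff.2 h⟩
  · exact ⟨a, (m4 a ha).le, rel_iff.2 h⟩

include hdim horth hmin in
theorem exists_octad {s : Finset (Fin 24)} (hs : s.card = 5) :
    ∃! b, (InC C b ∧ b.card = 8) ∧ s ⊆ b := by
  obtain ⟨a, ha, hrel⟩ := exists_leader hdim hmin s
  have h0 : (a ∆ s).Nonempty :=
    Finset.nonempty_iff_ne_empty.2 fun e => by rw [symmDiff_eq_bot.1 e] at ha; omega
  have h8 := min_card hmin hrel h0
  obtain ⟨k, hk⟩ := card_even horth hrel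
  have hid := card_symmDiff_add a s
  have hd : (a ∩ s).card = 0 := by omega
  refine ⟨a ∆ s, ⟨⟨hrel, by omega⟩, ?_⟩, ?_⟩
  · intro i hi
    rw [Finset.card_eq_zero, Finset.eq_empty_iff_forall_notMem] at hd
    exact mem_symmDiff'.2 (Or.inr ⟨hi, fun h => hd i (Finset.mem_inter.2 ⟨h, hi⟩)⟩)
  · rintro b ⟨⟨hb, hb8⟩, hsb⟩
    have hs' : s ⊆ a ∆ s := by
      intro i hi
      rw [Finset.card_eq_zero, Finset.eq_empty_iff_forall_notMem] at hd
      exact mem_symmDiff'.2 (Or.inr ⟨hi, fun h => hd i (Finset.mem_inter.2 ⟨h, hi⟩)⟩)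
    have h5 : 5 ≤ (b ∩ (a ∆ s)).card :=
      hs ▸ Finset.card_le_card (Finset.subset_inter hsb hs')
    have := card_symmDiff_add b (a ∆ s)
    have := eq_empty_of_card hmin (inC_add hb hrel) (by omega)
    exact symmDiff_eq_bot.1 this

include hdim horth hmin in
theorem nonempty_octad : ∃ b, InC C b ∧ b.card = 8 := by
  obtain ⟨s, -, hs⟩ := Finset.exists_subset_card_eq (s := (univ : Finset (Fin 24))) (n := 5)
    (by simp)
  obtain ⟨b, hb, -⟩ := exists_octad hdim horth hmin hs
  exact ⟨b, hb.1⟩

include hdim horth hmin in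
theorem span_octads :
    Submodule.span (ZMod 2) {w : W | w ∈ C ∧ hammingNorm w = 8} = C := by
  refine le_antisymm (Submodule.span_le.2 fun w hw => hw.1) ?_
  suffices ∀ n, ∀ s : Finset (Fin 24), s.card = n → InC C s →
      chi s ∈ Submodule.span (ZMod 2) {w : W | w ∈ C ∧ hammingNorm w = 8} by
    intro w hw
    have := this _ (sp w) rfl (by unfold InC; rwa [chi_sp])
    rwa [chi_sp] at this
  intro n
  induction n using Nat.strong_induction_on with
  | _ n ih =>
    intro s hn hs
    by_cases h5 : s.card < 8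
    · rw [eq_empty_of_card hmin hs h5]
      convert Submodule.zero_mem _
      ext i; simp [chi]
    obtain ⟨t, hts, ht⟩ := Finset.exists_subset_card_eq (s := s) (n := 5) (by omega)
    obtain ⟨b, ⟨⟨hb, hb8⟩, htb⟩, -⟩ := exists_octad hdim horth hmin ht
    have h5' : 5 ≤ (s ∩ b).card := ht ▸ Finset.card_le_card (Finset.subset_inter hts htb)
    have hid := card_symmDiff_add s b
    have h1 : chi b ∈ Submodule.span (ZMod 2) {w : W | w ∈ C ∧ hammingNorm w = 8} :=
      Submodule.subset_span ⟨hb, by rw [norm_eq, sp_chi, hb8]⟩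
    have h2 := ih _ (by omega) (s ∆ b) rfl (inC_add hs hb)
    have := Submodule.sub_mem _ h2 h1
    rwa [chi_symmDiff, add_sub_cancel_right] at this

include hdim horth hmin in
theorem four_dvd {w : W} (hw : w ∈ C) : 4 ∣ hammingNorm w := by
  have hw' := hw
  rw [← span_octads hdim horth hmin] at hw'
  suffices w ∈ C ∧ 4 ∣ hammingNorm w from this.2
  induction hw' using Submodule.span_induction with
  | mem x hx => exact ⟨hx.1, ⟨2, hx.2⟩⟩
  | zero => exact ⟨C.zero_mem, by simp⟩
  | add x y hx hy ihx ihy =>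
    have hxC : x ∈ C := span_octads hdim horth hmin ▸ hx
    have hyC : y ∈ C := span_octads hdim horth hmin ▸ hy
    refine ⟨C.add_mem hxC hyC, ?_⟩
    have h4x := (ihx hxC).2
    have h4y := (ihy hyC).2
    have e : x + y = chi (sp x ∆ sp y) := by rw [chi_symmDiff, chi_sp, chi_sp]
    rw [norm_eq] at h4x h4y
    rw [e, norm_eq, sp_chi]
    obtain ⟨k, hk⟩ := inter_even horth (a := sp x) (b := sp y)
      (by unfold InC; rwa [chi_sp]) (by unfold InC; rwa [chi_sp])
    have := card_symmDiff_add (sp x) (sp y)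
    omega
  | smul a x hx ihx =>
    have hxC : x ∈ C := span_octads hdim horth hmin ▸ hx
    refine ⟨C.smul_mem a hxC, ?_⟩
    rcases (by decide : ∀ a : ZMod 2, a = 0 ∨ a = 1) a with rfl | rfl
    · simp
    · simpa using (ihx hxC).2

include hdim horth hmin in
theorem leaders (s : Finset (Fin 24)) :
    (∃ a, a.card ≤ 3 ∧ ∀ b, (b.card ≤ 4 ∧ Rel C b s) ↔ b = a) ∨
    (∀ T : Finset (Finset (Fin 24)), (∀ b, b ∈ T ↔ b.card ≤ 4 ∧ Rel C b s) →
      T.card = 6 ∧ (∀ b ∈ T, b.card = 4 ∧ ∀ b' ∈ T, b ≠ b' → Disjoint b b')) := by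
  obtain ⟨a, ha, hrel⟩ := exists_leader hdim hmin s
  have trans' : ∀ {b}, Rel C b s → Rel C a b := fun hb => by
    rw [rel_iff] at hrel hb ⊢; rw [hrel, hb]
  rcases lt_or_eq_of_le ha with h3 | h4
  · left
    refine ⟨a, by omega, fun b => ⟨fun h => ?_, fun h => h ▸ ⟨ha, hrel⟩⟩⟩
    exact (rel_small hmin (trans' h.2) (by have := h.1; omega)).symm
  · right
    intro T hT
    have hfour : ∀ b ∈ T, b.card = 4 := by
      intro b hb
      obtain ⟨h1, h2⟩ := (hT b).1 hb
      by_contra hne
      have := rel_small hmin (trans' h2) (by omega)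
      subst this; exact hne h4
    have hdis : ∀ b ∈ T, ∀ b' ∈ T, b ≠ b' → Disjoint b b' := by
      intro b hb b' hb' hne
      have h2 := rel_iff.1 ((hT b).1 hb).2
      have h2' := rel_iff.1 ((hT b').1 hb').2
      exact rel_four hmin (rel_iff.2 (h2.trans h2'.symm)) (hfour b hb) (hfour b' hb') hne
    refine ⟨?_, fun b hb => ⟨hfour b hb, hdis b hb⟩⟩
    have hcov : T.biUnion id = univ := by
      refine Finset.eq_univ_iff_forall.2 fun p => ?_
      rw [Finset.mem_biUnion]
      by_cases hp : p ∈ a
      · exact ⟨a, (hT a).2 ⟨ha, hrel⟩, hp⟩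
      obtain ⟨o, ⟨⟨ho, ho8⟩, hao⟩, -⟩ := exists_octad hdim horth hmin (s := insert p a)
        (by rw [Finset.card_insert_of_notMem hp, h4])
      have hsub : a ⊆ o := fun i hi => hao (Finset.mem_insert_of_mem hi)
      have hia : (o ∩ a).card = 4 := by rw [Finset.inter_eq_right.2 hsub, h4]
      have := card_symmDiff_add o a
      refine ⟨o ∆ a, (hT _).2 ⟨by omega, ?_⟩, mem_symmDiff'.2
        (Or.inl ⟨hao (Finset.mem_insert_self _ _), hp⟩)⟩
      rw [rel_iff] at hrel ⊢
      rw [← hrel, chi_symmDiff, map_add, show C.mkQ (chi o) = 0 from (Submodule.Quotient.mk_eq_zero C).2 ho, zero_add]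
    have hd : (T : Set (Finset (Fin 24))).PairwiseDisjoint id := fun b hb b' hb' h =>
      hdis b hb b' hb' h
    have h1 := Finset.card_biUnion hd
    simp only [id_eq] at h1
    rw [Finset.sum_const_nat (m := 4) (fun b hb => hfour b hb)] at h1
    have h2 : (T.biUnion id).card = 24 := by rw [hcov]; simp
    omega

end Cfsg.Agent.SelfDual24
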