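import Mathlib.Data.Finset.Powerset
import Mathlib.Data.Nat.Choose.Basic
import Mathlib.Data.Set.Card
import Mathlib.Tactic
import Cfsg.Prelude.Def_Sporadic_a

/-! Intersection numbers of a Steiner system. -/

namespace Cfsg.Agent.SelfDual24

open Finset

variable {α : Type*} [Fintype α] [DecidableEq α]

/-- The number of blocks containing `T`, times the number of ways to extend inside a block. -/
theorem count_containing (B : Finset (Finset α)) (hB : Cfsg.IsSteinerSystem 5 8 (B : Set (Finset α)))
    (T : Finset α) (hT : T.card ≤ 5) :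
    (B.filter fun b => T ⊆ b).card * (8 - T.card).choose (5 - T.card) =
      (Fintype.card α - T.card).choose (5 - T.card) := by
  classical
  set U := Finset.powersetCard (5 - T.card) (univ \ T) with hU
  have hUc : U.card = (Fintype.card α - T.card).choose (5 - T.card) := by
    rw [hU, Finset.card_powersetCard, Finset.card_univ_diff]
  rw [← hUc]
  have key : U = (B.filter fun b => T ⊆ b).biUnion
      fun b => Finset.powersetCard (5 - T.card) (b \ T) := by
    ext u
    simp only [hU, Finset.mem_biUnion, Finset.mem_powersetCard, Finset.mem_filter]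
    constructor
    · rintro ⟨hu, hc⟩
      have hd : Disjoint T u := Finset.disjoint_left.2 fun x hx hx' =>
        (Finset.mem_sdiff.1 (hu hx')).2 hx
      obtain ⟨b, ⟨hb, hsub⟩, -⟩ := hB.2 (T ∪ u) (by
        rw [Finset.card_union_of_disjoint hd, hc]; omega)
      exact ⟨b, ⟨hb, Finset.subset_union_left.trans hsub⟩, fun x hx => Finset.mem_sdiff.2
        ⟨hsub (Finset.mem_union_right _ hx), (Finset.mem_sdiff.1 (hu hx)).2⟩, hc⟩
    · rintro ⟨b, -, hu, hc⟩
      exact ⟨fun x hx => Finset.mem_sdiff.2 ⟨Finset.mem_univ _, (Finset.mem_sdiff.1 (hu hx)).2⟩,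
        hc⟩
  rw [key, Finset.card_biUnion]
  · rw [Finset.sum_const_nat (m := (8 - T.card).choose (5 - T.card))]
    intro b hb
    obtain ⟨hbB, hTb⟩ := Finset.mem_filter.1 hb
    rw [Finset.card_powersetCard, Finset.card_sdiff_of_subset hTb, hB.1 b hbB]
  · intro b hb b' hb' hne
    rw [Function.onFun, Finset.disjoint_left]
    intro u hu hu'
    obtain ⟨hu, hc⟩ := Finset.mem_powersetCard.1 hu
    obtain ⟨hu', -⟩ := Finset.mem_powersetCard.1 hu'
    obtain ⟨hbB, hTb⟩ := Finset.mem_filter.1 hb
    obtain ⟨hbB', hTb'⟩ := Finset.mem_filter.1 hb'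
    have hd : Disjoint T u := Finset.disjoint_left.2 fun x hx hx' =>
      (Finset.mem_sdiff.1 (hu hx')).2 hx
    obtain ⟨c, -, huniq⟩ := hB.2 (T ∪ u) (by
      rw [Finset.card_union_of_disjoint hd, hc]; omega)
    exact hne ((huniq b ⟨hbB, Finset.union_subset hTb (hu.trans Finset.sdiff_subset)⟩).trans
      (huniq b' ⟨hbB', Finset.union_subset hTb' (hu'.trans Finset.sdiff_subset)⟩).symm)

end Cfsg.Agent.SelfDual24
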